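import Mathlib
import Cfsg.Prelude.Def_ParabolicCharacters

/-!
# Centralizers and fixed lines in `GL₂`
-/

set_option autoImplicit false

namespace CfsgLib.Centralizers.GL2

universe u

variable {F : Type u} [Field F]

theorem mem_borel (g : GL (Fin 2) F) : g ∈ Cfsg.upperTriangularGL 2 F ↔ (g : Matrix (Fin 2) (Fin 2) F) 1 0 = 0 := by
  refine ⟨fun h => h (by decide : (0 : Fin 2) < 1), fun h i j hij => ?_⟩
  fin_cases i <;> fin_cases j <;> simp_all

theorem det_ne (g : GL (Fin 2) F) :
    (g : Matrix (Fin 2) (Fin 2) F) 0 0 * (g : Matrix (Fin 2) (Fin 2) F) 1 1 -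
      (g : Matrix (Fin 2) (Fin 2) F) 0 1 * (g : Matrix (Fin 2) (Fin 2) F) 1 0 ≠ 0 := by
  rw [← Matrix.det_fin_two]
  exact ((Matrix.isUnit_iff_isUnit_det _).mp ⟨g, rfl⟩).ne_zero

theorem mul_entry (a b : GL (Fin 2) F) (i j : Fin 2) :
    ((a * b : GL (Fin 2) F) : Matrix (Fin 2) (Fin 2) F) i j =
      (a : Matrix (Fin 2) (Fin 2) F) i 0 * (b : Matrix (Fin 2) (Fin 2) F) 0 j +
        (a : Matrix (Fin 2) (Fin 2) F) i 1 * (b : Matrix (Fin 2) (Fin 2) F) 1 j := by
  rw [Units.val_mul, Matrix.mul_apply, Fin.sum_univ_two]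

/-- The line spanned by the first column. -/
noncomputable def line (h : GL (Fin 2) F) : Option F :=
  open Classical in
  if (h : Matrix (Fin 2) (Fin 2) F) 1 0 = 0 then none
  else some ((h : Matrix (Fin 2) (Fin 2) F) 0 0 / (h : Matrix (Fin 2) (Fin 2) F) 1 0)

/-- The condition of being fixed, in coordinates. -/
def Fixed (g : GL (Fin 2) F) : Option F → Prop
  | none => (g : Matrix (Fin 2) (Fin 2) F) 1 0 = 0
  | some x => (g : Matrix (Fin 2) (Fin 2) F) 1 0 * x * x +
      ((g : Matrix (Fin 2) (Fin 2) F) 1 1 - (g : Matrix (Fin 2) (Fin 2) F) 0 0) * x -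
      (g : Matrix (Fin 2) (Fin 2) F) 0 1 = 0

theorem line_mul (h b : GL (Fin 2) F) (hb : b ∈ Cfsg.upperTriangularGL 2 F) : line (h * b) = line h := by
  rw [mem_borel] at hb
  have hd := det_ne b
  rw [hb, mul_zero, sub_zero] at hd
  have h0 := left_ne_zero_of_mul hd
  unfold line
  rw [mul_entry, mul_entry, hb, mul_zero, mul_zero, add_zero, add_zero]
  by_cases hc : (h : Matrix (Fin 2) (Fin 2) F) 1 0 = 0
  · simp [hc]
  · rw [if_neg hc, if_neg (mul_ne_zero hc h0), mul_div_mul_right _ _ h0]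

theorem cross (h g k : GL (Fin 2) F) (e : h * k = g) :
    (h : Matrix (Fin 2) (Fin 2) F) 0 0 * (g : Matrix (Fin 2) (Fin 2) F) 1 0 -
      (h : Matrix (Fin 2) (Fin 2) F) 1 0 * (g : Matrix (Fin 2) (Fin 2) F) 0 0 =
    ((h : Matrix (Fin 2) (Fin 2) F) 0 0 * (h : Matrix (Fin 2) (Fin 2) F) 1 1 -
      (h : Matrix (Fin 2) (Fin 2) F) 0 1 * (h : Matrix (Fin 2) (Fin 2) F) 1 0) *
      (k : Matrix (Fin 2) (Fin 2) F) 1 0 := by
  subst e
  rw [mul_entry, mul_entry]
  ring

theorem eq_of_line (h h' : GL (Fin 2) F) (e : line h = line h') : h⁻¹ * h' ∈ Cfsg.upperTriangularGL 2 F := by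
  rw [mem_borel]
  refine (mul_eq_zero.mp ((cross h h' (h⁻¹ * h') (mul_inv_cancel_left h h')).symm.trans ?_)).resolve_left (det_ne h)
  unfold line at e
  by_cases h1 : (h : Matrix (Fin 2) (Fin 2) F) 1 0 = 0 <;> by_cases h2 : (h' : Matrix (Fin 2) (Fin 2) F) 1 0 = 0
  · simp [h1, h2]
  · simp [h1, h2] at e
  · simp [h1, h2] at e
  · rw [if_neg h1, if_neg h2, Option.some_inj, div_eq_div_iff h1 h2] at e
    linear_combination e

/-- Cosets of the Borel subgroup are lines. -/
noncomputable def cosetEquiv : (GL (Fin 2) F ⧸ Cfsg.upperTriangularGL 2 F) ≃ Option F :=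
  Equiv.ofBijective
    (Quotient.lift line fun a b hab => by
      have h1 : a⁻¹ * b ∈ Cfsg.upperTriangularGL 2 F := QuotientGroup.leftRel_apply.mp hab
      rw [← line_mul a _ h1, mul_inv_cancel_left])
    ⟨fun a b => Quotient.inductionOn₂ a b fun h h' e => QuotientGroup.eq.mpr (eq_of_line h h' e), fun o => by
      cases o with
      | none =>
        refine ⟨QuotientGroup.mk 1, ?_⟩
        show line 1 = none
        simp [line]
      | some x =>
        refine ⟨QuotientGroup.mk (Matrix.GeneralLinearGroup.mkOfDetNeZero !![x, 1; 1, 0] (by simp [Matrix.det_fin_two])), ?_⟩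
        show line _ = some x
        simp [line]⟩

theorem fixed_iff (g h : GL (Fin 2) F) :
    g • (QuotientGroup.mk h : GL (Fin 2) F ⧸ Cfsg.upperTriangularGL 2 F) = QuotientGroup.mk h ↔ Fixed g (line h) := by
  show (QuotientGroup.mk (g * h) : GL (Fin 2) F ⧸ Cfsg.upperTriangularGL 2 F) = QuotientGroup.mk h ↔ _
  rw [eq_comm, QuotientGroup.eq, mem_borel]
  have e := cross h (g * h) (h⁻¹ * (g * h)) (mul_inv_cancel_left h (g * h))
  rw [mul_entry, mul_entry] at e
  have hd := det_ne h
  have h1 : ((h⁻¹ * (g * h) : GL (Fin 2) F) : Matrix (Fin 2) (Fin 2) F) 1 0 = 0 ↔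
      (h : Matrix (Fin 2) (Fin 2) F) 0 0 * ((g : Matrix (Fin 2) (Fin 2) F) 1 0 * (h : Matrix (Fin 2) (Fin 2) F) 0 0 +
        (g : Matrix (Fin 2) (Fin 2) F) 1 1 * (h : Matrix (Fin 2) (Fin 2) F) 1 0) -
      (h : Matrix (Fin 2) (Fin 2) F) 1 0 * ((g : Matrix (Fin 2) (Fin 2) F) 0 0 * (h : Matrix (Fin 2) (Fin 2) F) 0 0 +
        (g : Matrix (Fin 2) (Fin 2) F) 0 1 * (h : Matrix (Fin 2) (Fin 2) F) 1 0) = 0 := by
    rw [e, mul_eq_zero, or_iff_right hd]
  rw [h1]
  unfold line
  by_cases hc : (h : Matrix (Fin 2) (Fin 2) F) 1 0 = 0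
  · rw [if_pos hc]
    have h00 : (h : Matrix (Fin 2) (Fin 2) F) 0 0 ≠ 0 := by
      rw [hc, mul_zero, sub_zero] at hd; exact left_ne_zero_of_mul hd
    simp only [hc, Fixed, mul_zero, add_zero, zero_mul, sub_zero, mul_eq_zero, h00, false_or, or_false]
  · rw [if_neg hc]
    simp only [Fixed]
    constructor <;> intro hh
    · field_simp
      linear_combination hh
    · field_simp at hh
      linear_combination hh

theorem fixedPoint_eq [Fintype F] (g : GL (Fin 2) F) :
    Cfsg.fixedPointCharacter (Cfsg.upperTriangularGL 2 F) g = (Nat.card {o : Option F // Fixed g o} : ℂ) := by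
  unfold Cfsg.fixedPointCharacter
  refine congrArg (fun k : ℕ => (k : ℂ)) (Nat.card_congr (cosetEquiv.subtypeEquiv fun q => ?_))
  induction q using QuotientGroup.induction_on with
  | _ h => exact fixed_iff g h

theorem split_centralizer [Fintype F] (g : GL (Fin 2) F) (h01 : (g : Matrix (Fin 2) (Fin 2) F) 0 1 = 0)
    (h10 : (g : Matrix (Fin 2) (Fin 2) F) 1 0 = 0)
    (hne : (g : Matrix (Fin 2) (Fin 2) F) 0 0 ≠ (g : Matrix (Fin 2) (Fin 2) F) 1 1) :
    Nat.card (Subgroup.centralizer ({g} : Set (GL (Fin 2) F))) = (Fintype.card F - 1) ^ 2 := by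
  classical
  have key : ∀ a : GL (Fin 2) F, a ∈ Subgroup.centralizer ({g} : Set (GL (Fin 2) F)) ↔
      (a : Matrix (Fin 2) (Fin 2) F) 0 1 = 0 ∧ (a : Matrix (Fin 2) (Fin 2) F) 1 0 = 0 := by
    intro a
    rw [Subgroup.mem_centralizer_singleton_iff]
    constructor
    · intro h
      have h2 := congrArg (fun z : GL (Fin 2) F => (z : Matrix (Fin 2) (Fin 2) F) 0 1) h
      have h3 := congrArg (fun z : GL (Fin 2) F => (z : Matrix (Fin 2) (Fin 2) F) 1 0) h
      simp only [mul_entry, h01, h10, mul_zero, add_zero, zero_mul, zero_add] at h2 h3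
      exact ⟨(mul_eq_zero.mp (show (a : Matrix (Fin 2) (Fin 2) F) 0 1 *
          ((g : Matrix (Fin 2) (Fin 2) F) 1 1 - (g : Matrix (Fin 2) (Fin 2) F) 0 0) = 0 by linear_combination h2)).resolve_right
            (sub_ne_zero.mpr hne.symm),
        (mul_eq_zero.mp (show (a : Matrix (Fin 2) (Fin 2) F) 1 0 *
          ((g : Matrix (Fin 2) (Fin 2) F) 0 0 - (g : Matrix (Fin 2) (Fin 2) F) 1 1) = 0 by linear_combination h3)).resolve_right
            (sub_ne_zero.mpr hne)⟩
    · rintro ⟨a1, a2⟩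
      refine Units.ext (Matrix.ext fun i j => ?_)
      rw [mul_entry, mul_entry]
      fin_cases i <;> fin_cases j <;> simp [h01, h10, a1, a2, mul_comm]
  let f : Subgroup.centralizer ({g} : Set (GL (Fin 2) F)) → Fˣ × Fˣ := fun a =>
    (Units.mk0 (((a : GL (Fin 2) F) : Matrix (Fin 2) (Fin 2) F) 0 0) (by
      have := det_ne (a : GL (Fin 2) F); rw [((key _).mp a.2).1, zero_mul, sub_zero] at this; exact left_ne_zero_of_mul this),
    Units.mk0 (((a : GL (Fin 2) F) : Matrix (Fin 2) (Fin 2) F) 1 1) (by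
      have := det_ne (a : GL (Fin 2) F); rw [((key _).mp a.2).1, zero_mul, sub_zero] at this; exact right_ne_zero_of_mul this))
  have hf : Function.Bijective f := by
    refine ⟨fun a b hab => Subtype.ext (Units.ext (Matrix.ext fun i j => ?_)), fun ⟨s, t⟩ => ?_⟩
    · have e0 := congrArg (fun z : Fˣ × Fˣ => (z.1 : F)) hab
      have e1 := congrArg (fun z : Fˣ × Fˣ => (z.2 : F)) hab
      have ha := (key _).mp a.2
      have hb := (key _).mp b.2
      fin_cases i <;> fin_cases j
      · exact e0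
      · exact ha.1.trans hb.1.symm
      · exact ha.2.trans hb.2.symm
      · exact e1
    · refine ⟨⟨Matrix.GeneralLinearGroup.mkOfDetNeZero !![(s : F), 0; 0, (t : F)] (by simp [Matrix.det_fin_two]), (key _).mpr ⟨by simp, by simp⟩⟩, ?_⟩
      refine Prod.ext (Units.ext ?_) (Units.ext ?_) <;> simp [f]
  rw [Nat.card_congr (Equiv.ofBijective f hf), Nat.card_prod, Nat.card_units, Nat.card_eq_fintype_card, sq]

theorem nonsplit_centralizer [Fintype F] (g : GL (Fin 2) F)
    (hno : ∀ (c : F) (v : Fin 2 → F), v ≠ 0 → (g : Matrix (Fin 2) (Fin 2) F).mulVec v ≠ c • v) :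
    Nat.card (Subgroup.centralizer ({g} : Set (GL (Fin 2) F))) = Fintype.card F ^ 2 - 1 := by
  classical
  set G := (g : Matrix (Fin 2) (Fin 2) F) with hG
  have hg10 : G 1 0 ≠ 0 := fun h => hno (G 0 0) ![1, 0] (by simp) (by
    funext i; fin_cases i <;> simp [Matrix.mulVec, dotProduct, Fin.sum_univ_two, h])
  let M : F × F → Matrix (Fin 2) (Fin 2) F := fun ab => ab.1 • (1 : Matrix (Fin 2) (Fin 2) F) + ab.2 • G
  have hdet : ∀ ab : F × F, ab ≠ 0 → (M ab).det ≠ 0 := by
    rintro ⟨a, b⟩ hab h0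
    obtain ⟨v, hv, hv0⟩ := Matrix.exists_mulVec_eq_zero_iff.mpr h0
    simp only [M, Matrix.add_mulVec, Matrix.smul_mulVec, Matrix.one_mulVec] at hv0
    by_cases hb : b = 0
    · subst hb
      rw [zero_smul, add_zero, smul_eq_zero] at hv0
      exact hab (Prod.ext (hv0.resolve_right hv) rfl)
    · refine hno (-a / b) v hv ?_
      have h1 : b • G.mulVec v = b • ((-a / b) • v) := by
        rw [smul_smul, mul_div_cancel₀ _ hb, neg_smul]
        exact eq_neg_of_add_eq_zero_right hv0
      exact smul_right_injective _ hb h1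
  let f : {ab : F × F // ab ≠ 0} → Subgroup.centralizer ({g} : Set (GL (Fin 2) F)) := fun ab =>
    ⟨Matrix.GeneralLinearGroup.mkOfDetNeZero (M ab) (hdet _ ab.2), Subgroup.mem_centralizer_singleton_iff.mpr (Units.ext (by
      show M ab * G = G * M ab
      simp [M, add_mul, mul_add]))⟩
  have hf : Function.Bijective f := by
    constructor
    · intro ab cd h
      have h' : M ab = M cd := congrArg (fun z : Subgroup.centralizer ({g} : Set (GL (Fin 2) F)) => ((z : GL (Fin 2) F) : Matrix (Fin 2) (Fin 2) F)) h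
      have e10 := congrFun (congrFun h' 1) 0
      have e00 := congrFun (congrFun h' 0) 0
      simp [M] at e10 e00
      have e2 : ab.1.2 = cd.1.2 := e10.resolve_right hg10
      rw [e2, add_left_inj] at e00
      exact Subtype.ext (Prod.ext e00 e2)
    · intro a
      set A := ((a : GL (Fin 2) F) : Matrix (Fin 2) (Fin 2) F) with hA
      have hc : A * G = G * A := congrArg Units.val (Subgroup.mem_centralizer_singleton_iff.mp a.2)
      have c00 := congrFun (congrFun hc 0) 0
      have c10 := congrFun (congrFun hc 1) 0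
      simp [Matrix.mul_apply, Fin.sum_univ_two] at c00 c10
      have hne : ((A 0 0 - A 1 0 / G 1 0 * G 0 0, A 1 0 / G 1 0) : F × F) ≠ 0 := by
        intro h0
        simp only [Prod.mk_eq_zero] at h0
        obtain ⟨k1, k2⟩ := h0
        rw [k2, zero_mul, sub_zero] at k1
        have h10 : A 1 0 = 0 := (div_eq_zero_iff.mp k2).resolve_right hg10
        have := det_ne (a : GL (Fin 2) F)
        rw [← hA, k1, h10, zero_mul, mul_zero, sub_zero] at this
        exact this rfl
      refine ⟨⟨_, hne⟩, Subtype.ext (Units.ext ?_)⟩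
      show M _ = A
      ext i j
      fin_cases i <;> fin_cases j <;> simp [M] <;> field_simp
      all_goals first
        | linear_combination c00
        | linear_combination (-1 : F) * c00
        | linear_combination c10
        | linear_combination (-1 : F) * c10
        | ring
  rw [← Nat.card_congr (Equiv.ofBijective f hf), Nat.card_eq_fintype_card, Fintype.card_subtype_compl,
    Fintype.card_subtype_eq, Fintype.card_prod, sq]

end CfsgLib.Centralizers.GL2
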